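import Cfsg.Agent.H605.XZ.PO8b

/-!
# S4791: `PΩ₈⁺(q)`, `p ∣ q² + 1` (helper605)

* `exists_sylow` : the Sylow subgroup of `Ω₈⁺(q)` in the model `K × K` is the group of the diagonal maps of order dividing
  the `p`-part of `q² + 1`.
* `x0_eq_kJ_four` : all characters of the principal block have height zero.
* `four_x0` : `2 p ≤ x0 p M (E (plusForm 4 F))`.
-/

set_option autoImplicit false
set_option linter.unusedSectionVars false

open QuadraticMap Module Cfsg Subgroup Cfsg.Agent.LieClassical.OrthCore Cfsg.Agent.LieClassical.OrthTrans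
open Cfsg.Agent.LieClassical.OrthFinite Cfsg.Agent.ClassicalGeometry Cfsg.Agent.H508.KB
open Cfsg.Agent.H587.KB8 Cfsg.Agent.H587.KB8.Mdl
open Cfsg.Agent.H200.LinFix Cfsg.Agent.H674.XZ

namespace Cfsg.Agent.H605.PO8

theorem card_pow_p {K : Type*} [Field K] [Finite K] {p : ℕ} [hp : Fact p.Prime] {z : Kˣ} (hz : z ^ p = 1) (hz1 : z ≠ 1) :
    Nat.card {b : Kˣ // b ^ p = 1} = p := by
  have : NeZero p := ⟨hp.out.ne_zero⟩
  have h1 : IsPrimitiveRoot (z : K) p := by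
    rw [IsPrimitiveRoot.coe_units_iff]
    have := IsPrimitiveRoot.orderOf z
    rwa [orderOf_eq_prime hz hz1] at this
  have h2 := h1.card_rootsOfUnity
  exact (Nat.card_congr (Equiv.subtypeEquivRight fun b => (mem_rootsOfUnity p b).symm)).trans h2

section

variable {F : Type} [Field F] [Fintype F] {K : Type} [Field K] [Finite K] [Algebra F K] {p : ℕ} [hp : Fact p.Prime]

/-- elements of `p`-power order -/
theorem pow_N (hK : finrank F K = 4) (hp2 : p ≠ 2) {n m : ℕ} (hq : Fintype.card F ^ 2 + 1 = p ^ (n + 1) * m) (hm : ¬ p ∣ m)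
    {b : Kˣ} {k : ℕ} (hb : b ^ p ^ k = 1) : b ^ p ^ (n + 1) = 1 := by
  have h1 : orderOf b ∣ p ^ k := orderOf_dvd_of_pow_eq_one hb
  have h2 : orderOf b ∣ Nat.card Kˣ := orderOf_dvd_natCard b
  rw [card_units_K hK, hq] at h2
  have h3 : ¬ p ∣ (Fintype.card F ^ 2 - 1) * m := by
    intro h
    rcases hp.out.dvd_mul.1 h with h4 | h4
    · have h5 : p ∣ Fintype.card F ^ 2 + 1 := by
        rw [hq]
        exact Dvd.dvd.mul_right (dvd_pow_self p (Nat.succ_ne_zero n)) _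
      have h6 : 1 ≤ Fintype.card F ^ 2 := Nat.one_le_pow _ _ Fintype.card_pos
      have h7 : p ∣ 2 := by
        have h8 := (Nat.dvd_sub h5 h4)
        have h9 : Fintype.card F ^ 2 + 1 - (Fintype.card F ^ 2 - 1) = 2 := by omega
        rwa [h9] at h8
      exact hp2 ((Nat.prime_dvd_prime_iff_eq hp.out Nat.prime_two).1 h7)
    · exact hm h4
  have h4 : (orderOf b).Coprime ((Fintype.card F ^ 2 - 1) * m) := by
    obtain ⟨j, -, hj⟩ := (Nat.dvd_prime_pow hp.out).1 h1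
    rw [hj]
    exact Nat.Coprime.pow_left _ ((Nat.Prime.coprime_iff_not_dvd hp.out).2 h3)
  have h5 : orderOf b ∣ ((Fintype.card F ^ 2 - 1) * m) * p ^ (n + 1) := by
    have e : (Fintype.card F ^ 2 - 1) * (p ^ (n + 1) * m) = ((Fintype.card F ^ 2 - 1) * m) * p ^ (n + 1) := by ring
    rwa [e] at h2
  exact orderOf_dvd_iff_pow_eq_one.1 (h4.dvd_of_dvd_mul_left h5)

/-- roots -/
theorem exists_root_N (hK : finrank F K = 4) {n m : ℕ} (hq : Fintype.card F ^ 2 + 1 = p ^ (n + 1) * m) {b : Kˣ}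
    (hb : b ^ p = 1) : ∃ c : Kˣ, c ^ p ^ n = b := by
  refine exists_root (m := p * ((Fintype.card F ^ 2 - 1) * m)) (n := p ^ n) ?_ ?_
  · rw [card_units_K hK, hq]
    ring
  · rw [pow_mul, hb, one_pow]

end

/-- **The Sylow subgroup and the height theorem.** -/
theorem x0_eq_kJ_four {F : Type} [Field F] [Fintype F] {p : ℕ} [Fact p.Prime] (h11 : 11 ≤ p)
    (hp : p ∣ Fintype.card F ^ 2 + 1) {M : Ideal AlgInt} (hM : IsPModular p M) {K : Type} [Field K] [Finite K] [Algebra F K]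
    (hK : finrank F K = 4) {Q : QuadraticForm F (Fin 4 ⊕ Fin 4 → F)} {Q₁ : QuadraticForm F K}
    {ψ : (K × K) ≃ₗ[F] (Fin 4 ⊕ Fin 4 → F)} (h : Mdl (fr F K) Q Q₁ ψ) {z b₁ b₂ : Kˣ} (hz : z ^ p = 1) (hz1 : z ≠ 1)
    (h1 : b₁ ^ p = 1) (h1n : b₁ ≠ 1) (h2 : b₂ ^ p = 1) (h2n : b₂ ≠ 1) (hne : ¬ IsConjRoot F (b₁ : K) (b₂ : K)) :
    x0 p M ↥(E Q) = Cfsg.Agent.H508.XR.kJ p M ↥(E Q) := by
  have hpp : p.Prime := Fact.out
  have hp2 : p ≠ 2 := by omega
  have hfd : FiniteDimensional F K := Module.Finite.of_finite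
  obtain ⟨r, hch, n', hr, hc⟩ := FiniteField.card' F
  have hfr : Fact r.Prime := ⟨hr⟩
  have hpo : Odd p := hpp.odd_of_ne_two hp2
  have hfinV : Finite ((Fin 4 ⊕ Fin 4 → F) ≃ₗ[F] (Fin 4 ⊕ Fin 4 → F)) :=
    Finite.of_injective (fun g : (Fin 4 ⊕ Fin 4 → F) ≃ₗ[F] (Fin 4 ⊕ Fin 4 → F) =>
      (g : (Fin 4 ⊕ Fin 4 → F) → (Fin 4 ⊕ Fin 4 → F))) DFunLike.coe_injective
  obtain ⟨hord, ho4⟩ := ordd_four hp2 hp
  have hord' : Ordd p (Nat.card F) 4 := by rw [Nat.card_eq_fintype_card]; exact hord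
  -- the `p`-part
  obtain ⟨a, m, hm, hq⟩ := Nat.exists_eq_pow_mul_and_not_dvd (Nat.succ_ne_zero (Fintype.card F ^ 2)) p hpp.ne_one
  obtain ⟨n, rfl⟩ : ∃ n, a = n + 1 := by
    rcases a with _ | n
    · exfalso
      rw [pow_zero, one_mul] at hq
      apply hm
      rw [← hq]
      exact hp
    · exact ⟨n, rfl⟩
  have hq' : Fintype.card F ^ 2 + 1 = p ^ (n + 1) * m := hq
  have hnm : ∀ z : Kˣ, z ^ p ^ (n + 1) = 1 → nm (fr F K) (z : K) = 1 := by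
    intro z hz
    rw [nm_eq, hq', ← Units.val_pow_eq_pow_val, pow_mul, hz, one_pow, Units.val_one]
  have hmem : ∀ b : Kˣ × Kˣ, b ^ p ^ (n + 1) = 1 → cj ψ (dg b) ∈ E Q := fun b hb =>
    h.dg_mem_E (hnm _ (congrArg Prod.fst hb)) (hnm _ (congrArg Prod.snd hb)) hpo.pow hb
  have hpN : ∀ b : Kˣ × Kˣ, b ^ p = 1 → b ^ p ^ (n + 1) = 1 := fun b hb => by
    rw [pow_succ', pow_mul, hb, one_pow]
  have hb1 : ((z, 1) : Kˣ × Kˣ) ^ p = 1 := Prod.ext hz (one_pow p)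
  have hb2 : ((1, z) : Kˣ × Kˣ) ^ p = 1 := Prod.ext (one_pow p) hz
  let Z : Subgroup (Kˣ × Kˣ) := (powMonoidHom (p ^ (n + 1)) : Kˣ × Kˣ →* Kˣ × Kˣ).ker
  let f : Z →* ↥(E Q) := ((cj ψ).comp ((dg (F := F) (K := K)).comp Z.subtype)).codRestrict (E Q)
    fun b => hmem b.1 b.2
  have hfp : IsPGroup p f.range := by
    rintro ⟨_, b, rfl⟩
    refine ⟨n + 1, ?_⟩
    apply Subtype.ext
    change f b ^ p ^ (n + 1) = 1
    rw [← map_pow, show b ^ p ^ (n + 1) = 1 from Subtype.ext b.2, map_one]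
  obtain ⟨S, hS⟩ := hfp.exists_le_sylow
  have hx1 : (⟨cj ψ (dg (z, 1)), hmem _ (hpN _ hb1)⟩ : ↥(E Q)) ∈ (S : Subgroup ↥(E Q)) := hS ⟨⟨(z, 1), hpN _ hb1⟩, rfl⟩
  have hx2 : (⟨cj ψ (dg (1, z)), hmem _ (hpN _ hb2)⟩ : ↥(E Q)) ∈ (S : Subgroup ↥(E Q)) := hS ⟨⟨(1, z), hpN _ hb2⟩, rfl⟩
  -- it is abelian
  have hpF : (p : F) ≠ 0 := by
    intro h0
    rw [CharP.cast_eq_zero_iff F r] at h0
    have h1 : r = p := (Nat.prime_dvd_prime_iff_eq hr hpp).1 h0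
    have h3 : p ∣ Fintype.card F ^ 2 := by rw [hc, h1, ← pow_mul]; exact dvd_pow_self _ (by simp)
    have h4 := (Nat.dvd_add_right h3).1 hp
    exact hpp.one_lt.ne' (Nat.dvd_one.1 h4)
  have hab : ∀ x ∈ (S : Subgroup ↥(E Q)), ∀ y ∈ (S : Subgroup ↥(E Q)), x * y = y * x := by
    intro x hx y hy
    let ρ : ↥(S : Subgroup ↥(E Q)) →* Module.End F (Fin 4 ⊕ Fin 4 → F) :=
      (LinearEquiv.automorphismGroup.toLinearMapMonoidHom (R := F) (M := Fin 4 ⊕ Fin 4 → F)).comp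
        ((E Q).subtype.comp (S : Subgroup ↥(E Q)).subtype)
    have hρ : Function.Injective ρ := by
      intro a b hab
      apply Subtype.ext
      apply Subtype.ext
      ext1 v
      exact LinearMap.congr_fun hab v
    have h3 := Cfsg.Agent.H308.LemB.pgroup_comm_of_finrank_lt ρ hρ hpp S.2 hpF (by
      rw [Module.finrank_fintype_fun_eq_card]
      simp
      omega) ⟨x, hx⟩ ⟨y, hy⟩
    exact congrArg Subtype.val h3
  have hall : ∀ y ∈ (S : Subgroup ↥(E Q)), ∀ b : Kˣ × Kˣ, y.1 * cj ψ (dg b) = cj ψ (dg b) * y.1 := fun y hy =>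
    comm_dg (ψ := ψ) hord' hK hz hz1 (congrArg Subtype.val (hab y hy _ hx1)) (congrArg Subtype.val (hab y hy _ hx2))
  have hinj : ∀ b b' : Kˣ × Kˣ, cj ψ (dg b) = cj ψ (dg b') → b = b' := fun b b' hbb => dg_injective (cj_injective ψ hbb)
  -- the elements of the Sylow subgroup
  have hSm : ∀ x : ↥(E Q), x ∈ (S : Subgroup ↥(E Q)) ↔ ∃ b : Kˣ × Kˣ, b ^ p ^ (n + 1) = 1 ∧ x.1 = cj ψ (dg b) := by
    intro x
    constructor
    · intro hx
      obtain ⟨b, hb⟩ := eq_dg hz1 (hall x hx)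
      obtain ⟨k, hk⟩ := S.2 ⟨x, hx⟩
      have hk' : x ^ p ^ k = 1 := congrArg Subtype.val hk
      have hk2 : x.1 ^ p ^ k = 1 := congrArg Subtype.val hk'
      rw [hb, ← map_pow, ← map_pow] at hk2
      have hk3 : b ^ p ^ k = 1 := hinj _ _ (by rw [hk2, map_one, map_one])
      exact ⟨b, Prod.ext (pow_N hK hp2 hq' hm (congrArg Prod.fst hk3)) (pow_N hK hp2 hq' hm (congrArg Prod.snd hk3)), hb⟩
    · rintro ⟨b, hb, hx⟩
      refine hS ⟨⟨b, hb⟩, Subtype.ext hx.symm⟩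
  -- the regular element
  have hbb : ((b₁, b₂) : Kˣ × Kˣ) ^ p = 1 := Prod.ext h1 h2
  set y : ↥(E Q) := ⟨cj ψ (dg (b₁, b₂)), hmem _ (hpN _ hbb)⟩ with hy
  have hyp : y ^ p = 1 := Subtype.ext (by
    change (cj ψ (dg (b₁, b₂))) ^ p = 1
    rw [← map_pow, ← map_pow, hbb, map_one, map_one])
  have hreg : H603.AP.Reg S y := by
    refine ⟨(hSm y).2 ⟨_, hpN _ hbb, rfl⟩, fun g _ hg => ?_⟩
    rw [mem_centralizer_iff]
    intro x hx
    obtain ⟨b, -, hb⟩ := (hSm x).1 hx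
    apply Subtype.ext
    change x.1 * g.1 = g.1 * x.1
    rw [hb]
    exact (comm_of_two (ψ := ψ) hord' hK h1 h1n h2 h2n hne (congrArg Subtype.val hg) b).symm
  refine H214.XR.x0_eq_kJ_of_rank_two hM S hab n ?_ ?_ ?_ hreg hyp
  · intro x hx
    obtain ⟨b, hb, hxb⟩ := (hSm x).1 hx
    apply Subtype.ext
    change x.1 ^ p ^ (n + 1) = 1
    rw [hxb, ← map_pow, ← map_pow, hb, map_one, map_one]
  · intro x hx hxp
    obtain ⟨b, hb, hxb⟩ := (hSm x).1 hx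
    have hbp : b ^ p = 1 := hinj _ _ (by
      rw [map_pow, map_pow, ← hxb, map_one, map_one]
      exact congrArg Subtype.val hxp)
    obtain ⟨c₁, hc₁⟩ := exists_root_N hK hq' (congrArg Prod.fst hbp : b.1 ^ p = 1)
    obtain ⟨c₂, hc₂⟩ := exists_root_N hK hq' (congrArg Prod.snd hbp : b.2 ^ p = 1)
    have hcb : ((c₁, c₂) : Kˣ × Kˣ) ^ p ^ n = b := Prod.ext hc₁ hc₂
    have hcN : ((c₁, c₂) : Kˣ × Kˣ) ^ p ^ (n + 1) = 1 := by rw [pow_succ, pow_mul, hcb, hbp]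
    refine ⟨⟨cj ψ (dg (c₁, c₂)), hmem _ hcN⟩, (hSm _).2 ⟨_, hcN, rfl⟩, ?_⟩
    apply Subtype.ext
    change (cj ψ (dg (c₁, c₂))) ^ p ^ n = x.1
    rw [← map_pow, ← map_pow, hcb, hxb]
  · have e : {x : ↥(E Q) // x ∈ (S : Subgroup ↥(E Q)) ∧ x ^ p = 1} ≃ {b : Kˣ // b ^ p = 1} × {b : Kˣ // b ^ p = 1} :=
      (Equiv.ofBijective (fun b : {b : Kˣ // b ^ p = 1} × {b : Kˣ // b ^ p = 1} =>
        (⟨⟨cj ψ (dg (b.1.1, b.2.1)), hmem _ (hpN _ (Prod.ext b.1.2 b.2.2))⟩,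
          (hSm _).2 ⟨_, hpN _ (Prod.ext b.1.2 b.2.2), rfl⟩, Subtype.ext (by
            change (cj ψ (dg (b.1.1, b.2.1))) ^ p = 1
            rw [← map_pow, ← map_pow, show ((b.1.1, b.2.1) : Kˣ × Kˣ) ^ p = 1 from Prod.ext b.1.2 b.2.2, map_one, map_one])⟩ :
          {x : ↥(E Q) // x ∈ (S : Subgroup ↥(E Q)) ∧ x ^ p = 1}))
        ⟨fun b b' hbb' => by
          have h3 := hinj _ _ (congrArg (fun x : {x : ↥(E Q) // x ∈ (S : Subgroup ↥(E Q)) ∧ x ^ p = 1} => x.1.1) hbb')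
          exact Prod.ext (Subtype.ext (congrArg Prod.fst h3)) (Subtype.ext (congrArg Prod.snd h3)),
        fun x => by
          obtain ⟨b, hb, hxb⟩ := (hSm x.1).1 x.2.1
          have hbp : b ^ p = 1 := hinj _ _ (by
            rw [map_pow, map_pow, ← hxb, map_one, map_one]
            exact congrArg Subtype.val x.2.2)
          exact ⟨(⟨b.1, congrArg Prod.fst hbp⟩, ⟨b.2, congrArg Prod.snd hbp⟩), Subtype.ext (Subtype.ext hxb.symm)⟩⟩).symm
    rw [Nat.card_congr e, Nat.card_prod, card_pow_p hz hz1, _root_.sq]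

/-- **`PΩ₈⁺(q)`, `p ∣ q² + 1`** -/
theorem four_x0 {F : Type} [Field F] [Fintype F] {p : ℕ} [Fact p.Prime] (h11 : 11 ≤ p)
    (hp : p ∣ Fintype.card F ^ 2 + 1) {M : Ideal AlgInt} (hM : IsPModular p M) :
    2 * p ≤ x0 p M ↥(E (LieClassical.QuadForms.plusForm 4 F)) := by
  have hpp : p.Prime := Fact.out
  have hp2 : p ≠ 2 := by omega
  obtain ⟨r, hch, n, hr, hc⟩ := FiniteField.card' F
  have hfr : Fact r.Prime := ⟨hr⟩
  have hK : finrank F (FiniteField.Extension F r 4) = 4 := FiniteField.finrank_extension F r 4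
  have hfd : FiniteDimensional F (FiniteField.Extension F r 4) := Module.Finite.of_finite
  obtain ⟨Q₁, ψ, hform, hiso⟩ := exists_model hK
  rw [Cfsg.Agent.AutOrth.Main.plusForm_eq] at hiso
  have hG : Good (LieClassical.QuadForms.plusForm 4 F) := Cfsg.Agent.AutOrth.Main.good_plus (by norm_num)
  have h : Mdl (fr F (FiniteField.Extension F r 4)) (LieClassical.QuadForms.plusForm 4 F) Q₁ ψ :=
    ⟨hG, hK, quart' hK, hform, hiso⟩
  have hnm : ∀ z : (FiniteField.Extension F r 4)ˣ, z ^ p = 1 →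
      nm (fr F (FiniteField.Extension F r 4)) (z : FiniteField.Extension F r 4) = 1 := by
    intro z hz
    obtain ⟨k, hk⟩ := hp
    rw [nm_eq, hk, ← Units.val_pow_eq_pow_val, pow_mul, hz, one_pow, Units.val_one]
  obtain ⟨z, hz, hz1⟩ := exists_zeta hK hp
  have hz0 : z ≠ 0 := by
    rintro rfl
    rw [zero_pow hpp.ne_zero] at hz
    exact zero_ne_one hz
  have hzu : (Units.mk0 z hz0) ^ p = 1 := Units.ext (by rw [Units.val_pow_eq_pow_val]; exact hz)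
  have hzu1 : Units.mk0 z hz0 ≠ 1 := fun h1 => hz1 (congrArg Units.val h1)
  obtain ⟨H, a, ha, ha1, hcl, hH⟩ := exists_family (F := F) hK.le _ hzu hzu1
  obtain ⟨hord, ho4⟩ := ordd_four hp2 hp
  have hQn := nondegenerate_of_nondeg hG.nondeg
  have hι : Fintype.card (Fin 4 ⊕ Fin 4) = 8 := rfl
  -- `p ≥ 13`
  have h4 : 4 ∣ p - 1 := by
    rw [← ho4]
    refine ZMod.orderOf_dvd_card_sub_one ?_
    intro h0
    rw [h0, orderOf_zero] at ho4
    exact absurd ho4 (by norm_num)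
  have h13 : 12 ≤ p - 1 := by omega
  have hH3 : 3 ≤ H := by omega
  have hb := kJ_bound h hM hp2 (by rw [Nat.card_eq_fintype_card]; exact hord) hQn hι hnm
    (h.sw_mem_E hQn hι (exists_half hK)) a ha ha1 hcl _ hzu hzu1
  rw [x0_eq_kJ_four h11 hp hM hK h hzu hzu1 (ha ⟨0, by omega⟩) (ha1 ⟨0, by omega⟩) (ha ⟨1, by omega⟩) (ha1 ⟨1, by omega⟩)
    (fun hcon => by
      have h5 := hcl _ _ hcon
      rw [Fin.mk.injEq] at h5
      exact zero_ne_one h5)]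
  refine le_trans ?_ hb
  have h5 : 3 * H ≤ H * H := Nat.mul_le_mul_right H hH3
  omega

end Cfsg.Agent.H605.PO8
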