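import Cfsg.Agent.H587.KB8.FourOut
import Cfsg.Agent.H214.XR.RankTwo
import Cfsg.Agent.H76.KJ.Basic

/-!
# S4791: `PΩ₈⁺(q)`, `p ∣ q² + 1`: the family of elements of order `p` (helper605)

`four_family` : the family of helper587's `H587.KB8.Mdl.four_bound`, with the ranks (`2` at the identity).
-/

set_option autoImplicit false
set_option linter.unusedSectionVars false
set_option linter.unusedSimpArgs false

open QuadraticMap Module Cfsg Subgroup Cfsg.Agent.LieClassical.OrthCore Cfsg.Agent.LieClassical.OrthTrans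
open Cfsg.Agent.LieClassical.OrthFinite Cfsg.Agent.ClassicalGeometry Cfsg.Agent.H508.KB
open Cfsg.Agent.H587.KB8 Cfsg.Agent.H587.KB8.Mdl

namespace Cfsg.Agent.H605.PO8

universe u

/-- the ranks -/
def lo2 {H : ℕ} : J H → ℕ
  | .inl _ => 2
  | .inr (.inl _) => 2
  | .inr (.inr (.inl ij)) => if ij.1 = ij.2 then 2 else 1
  | .inr (.inr (.inr _)) => 2

theorem sum_lo2 (H : ℕ) : ∑ j : J H, lo2 j = 2 + (2 * H + ((H * H + H) + 2 * H)) := by
  rw [Fintype.sum_sum_type, Fintype.sum_sum_type, Fintype.sum_sum_type]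
  have h1 : ∑ a : Unit, lo2 (Sum.inl a : J H) = 2 := by simp [lo2]
  have h2 : ∑ a : Fin H, lo2 (Sum.inr (Sum.inl a) : J H) = 2 * H := by simp [lo2, mul_comm]
  have h4 : ∑ a : Fin H, lo2 (Sum.inr (Sum.inr (Sum.inr a)) : J H) = 2 * H := by simp [lo2, mul_comm]
  have h3 : ∑ a : Fin H × Fin H, lo2 (Sum.inr (Sum.inr (Sum.inl a)) : J H) = H * H + H := by
    have h5 : ∀ a : Fin H × Fin H, lo2 (Sum.inr (Sum.inr (Sum.inl a)) : J H) = 1 + if a.1 = a.2 then 1 else 0 := by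
      intro a
      change (if a.1 = a.2 then 2 else 1) = _
      split_ifs <;> rfl
    simp only [h5]
    rw [Finset.sum_add_distrib, Fintype.sum_prod_type (f := fun a : Fin H × Fin H => if a.1 = a.2 then 1 else 0)]
    simp
  rw [h1, h2, h3, h4]

variable {F : Type} [Field F] [Finite F] {K : Type} [Field K] [Algebra F K] [FiniteDimensional F K] {φ : K ≃ₐ[F] K}
  {ι : Type} [Fintype ι] [DecidableEq ι] {Q : QuadraticForm F (ι → F)} {Q₁ : QuadraticForm F K}
  {ψ : (K × K) ≃ₗ[F] (ι → F)} {p : ℕ} [Fact p.Prime] {M : Ideal AlgInt}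

/-- **the family** (the proof is the one of helper587's `Mdl.four_bound`) -/
theorem four_family (h : Mdl φ Q Q₁ ψ) (hM : IsPModular p M) (hp2 : p ≠ 2)
    (hd : Cfsg.Agent.H200.LinFix.Ordd p (Nat.card F) 4) (hQ : (polarBilin Q).Nondegenerate) (hι : Fintype.card ι = 8)
    (hnm : ∀ z : Kˣ, z ^ p = 1 → nm φ (z : K) = 1) (hsw : cj ψ (sw F K) ∈ E Q) {H : ℕ} (a : Fin H → Kˣ)
    (ha : ∀ i, a i ^ p = 1) (ha1 : ∀ i, a i ≠ 1) (hcl : ∀ i j, IsConjRoot F (a i : K) (a j : K) → i = j) (z : Kˣ)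
    (hz : z ^ p = 1) (hz1 : z ≠ 1) :
    ∃ f : J H → ↥(E Q), (∀ j, f j ^ p = 1) ∧ (∀ i j, IsConj (f i) (f j) → i = j) ∧
      ∀ j, lo2 j ≤ blockRank p (principalBlock M ↥(centralizer ({f j} : Set ↥(E Q)))) := by
  have hfinV : Finite ((ι → F) ≃ₗ[F] (ι → F)) :=
    Finite.of_injective (fun g : (ι → F) ≃ₗ[F] (ι → F) => (g : (ι → F) → (ι → F))) DFunLike.coe_injective
  have hfinE : Finite ↥(E Q) := inferInstance
  have hpo : Odd p := (Fact.out : p.Prime).odd_of_ne_two hp2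
  -- a reflection
  obtain ⟨x₀, y₀, hxy⟩ := h.good.exists_hyp
  have hv : Q (x₀ + y₀) ≠ 0 := by
    rw [Q_add, hxy.left, hxy.right, hxy.pair]
    simp
  -- the elements
  have hmem : ∀ b : Kˣ × Kˣ, b ^ p = 1 → cj ψ (dg b) ∈ E Q := fun b hb =>
    h.dg_mem_E (hnm _ (congrArg Prod.fst hb)) (hnm _ (congrArg Prod.snd hb)) hpo hb
  have hvl : ∀ o, vl a o ^ p = 1 := by
    rintro (_ | i)
    · exact one_pow p
    · exact ha i
  have hvl2 : ∀ o : Option (Fin H) × Option (Fin H), (vl a o.1, vl a o.2) ^ p = 1 := fun o =>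
    Prod.ext (hvl o.1) (hvl o.2)
  set X : Option (Fin H) × Option (Fin H) → ↥(E Q) := fun o => ⟨cj ψ (dg (vl a o.1, vl a o.2)), hmem _ (hvl2 o)⟩
    with hX
  have hXv : ∀ o, (X o).1 = cj ψ (dg (vl a o.1, vl a o.2)) := fun o => rfl
  set f : J H → ↥(E Q) := fun j => if mi j then cr hv (X (pr j)) else X (pr j) with hf
  have hsupp : ∀ (j : J H) (k : K), Supp (f j).1 k ↔ Supp (X (pr j)).1 k := by
    intro j k
    by_cases hj : mi j
    · have h1 : (f j).1 = refl Q (x₀ + y₀) hv * (X (pr j)).1 * (refl Q (x₀ + y₀) hv)⁻¹ := by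
        simp only [hf, if_pos hj]; rfl
      exact supp_conj_iff h1.symm
    · have h1 : (f j).1 = (X (pr j)).1 := by simp only [hf, if_neg hj]
      rw [h1]
  -- conjugate elements have the same components
  have hcomp : ∀ j j' : J H, IsConj (f j) (f j') → ((pr j).1 = (pr j').1 ∨ (pr j).1 = (pr j').2) ∧
      ((pr j).2 = (pr j').1 ∨ (pr j).2 = (pr j').2) := by
    intro j j' hjj
    obtain ⟨g, hg⟩ := isConj_iff.1 hjj
    have hg' : g.1 * (f j).1 * g.1⁻¹ = (f j').1 := congrArg Subtype.val hg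
    have h1 : ∀ k : K, Supp (X (pr j)).1 k → Supp (X (pr j')).1 k := fun k hk =>
      (hsupp j' k).1 (((hsupp j k).2 hk).conj hg')
    constructor
    · have h2 := supp_dg (h1 _ (supp_fst (vl a (pr j).1, vl a (pr j).2)))
      exact h2.imp (vl_conj ha1 hcl) (vl_conj ha1 hcl)
    · have h2 := supp_dg (h1 _ (supp_snd (vl a (pr j).1, vl a (pr j).2)))
      exact h2.imp (vl_conj ha1 hcl) (vl_conj ha1 hcl)
  have hinj : ∀ j j' : J H, IsConj (f j) (f j') → j = j' := by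
    intro j j' hjj
    obtain ⟨h1, h2⟩ := hcomp j j' hjj
    obtain ⟨h3, h4⟩ := hcomp j' j hjj.symm
    rcases eq_of_pr h1 h2 h3 h4 with h5 | ⟨h5, h6, h7, h8⟩
    · exact h5
    exfalso
    have hne : ∀ o : Option (Fin H), o ≠ none → vl a o ≠ 1 := by
      rintro (_ | i) ho
      · exact absurd rfl ho
      · exact ha1 i
    have key : ∀ g : ↥(E Q), g.1 * (X (pr j)).1 * g.1⁻¹ =
        refl Q (x₀ + y₀) hv * (X (pr j)).1 * (refl Q (x₀ + y₀) hv)⁻¹ → False := fun g hg =>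
      h.not_conj hd hQ hι (hvl2 (pr j)) (hne _ h5) (hne _ h6) hv g.2 hg
    obtain ⟨g, hg⟩ := isConj_iff.1 hjj
    obtain ⟨g', hg'⟩ := isConj_iff.1 hjj.symm
    by_cases hj : mi j
    · have hj' : ¬ mi j' := h8.1 hj
      have e1 : f j = cr hv (X (pr j)) := by simp only [hf, if_pos hj]
      have e2 : f j' = X (pr j) := by simp only [hf, if_neg hj', h7]
      rw [e1, e2] at hg'
      exact key g' (congrArg Subtype.val hg')
    · have hj' : mi j' := by
        by_contra h9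
        exact hj (h8.2 h9)
      have e1 : f j = X (pr j) := by simp only [hf, if_neg hj]
      have e2 : f j' = cr hv (X (pr j)) := by simp only [hf, if_pos hj', h7]
      rw [e1, e2] at hg
      exact key g (congrArg Subtype.val hg)
  -- the ranks
  have hzz : ((z, z⁻¹) : Kˣ × Kˣ) ^ p = 1 := Prod.ext hz (by
    change z⁻¹ ^ p = 1
    rw [inv_pow, hz, inv_one])
  have h1z : ((1, z) : Kˣ × Kˣ) ^ p = 1 := Prod.ext (one_pow p) hz
  set Y : ↥(E Q) := ⟨cj ψ (dg (z, z⁻¹)), hmem _ hzz⟩ with hY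
  set Y' : ↥(E Q) := ⟨cj ψ (dg (1, z)), hmem _ h1z⟩ with hY'
  have hdgp : ∀ (b : Kˣ × Kˣ), b ^ p = 1 → ∀ hb, (⟨cj ψ (dg b), hb⟩ : ↥(E Q)) ^ p = 1 := fun b hb1 hb =>
    Subtype.ext (by
      change (cj ψ (dg b)) ^ p = 1
      rw [← map_pow, ← map_pow, hb1, map_one, map_one])
  have hdgc : ∀ (b b' : Kˣ × Kˣ) (hb hb'), Commute (⟨cj ψ (dg b), hb⟩ : ↥(E Q)) ⟨cj ψ (dg b'), hb'⟩ :=
    fun b b' hb hb' => Subtype.ext (by
      change cj ψ (dg b) * cj ψ (dg b') = cj ψ (dg b') * cj ψ (dg b)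
      rw [← map_mul, ← map_mul, ← map_mul, ← map_mul, mul_comm])
  have hYne : Y ≠ 1 := by
    intro h1
    have h2 : cj ψ (dg (z, z⁻¹)) = cj ψ (dg 1) := by
      rw [map_one, map_one]
      exact congrArg Subtype.val h1
    exact hz1 (congrArg Prod.fst (dg_injective (cj_injective ψ h2)))
  have hYne' : Y' ≠ 1 := by
    intro h1
    have h2 : cj ψ (dg (1, z)) = cj ψ (dg 1) := by
      rw [map_one, map_one]
      exact congrArg Subtype.val h1
    exact hz1 (congrArg Prod.snd (dg_injective (cj_injective ψ h2)))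
  set CA : ↥(E Q) := ⟨cA φ ψ, h.cA_mem_E⟩ with hCA
  set CB : ↥(E Q) := ⟨cj ψ (sw F K), hsw⟩ with hCB
  have hCA4 : CA ^ 4 = 1 := Subtype.ext h.cA_sq
  have hCB4 : CB ^ 4 = 1 := Subtype.ext sw_four
  have hCAY : CA * Y' * CA⁻¹ = Y'⁻¹ := Subtype.ext (by
    change cA φ ψ * cj ψ (dg (1, z)) * (cA φ ψ)⁻¹ = (cj ψ (dg (1, z)))⁻¹
    rw [h.cA_conj (hnm z hz), map_inv, map_inv])
  have hCBY : CB * Y * CB⁻¹ = Y⁻¹ := Subtype.ext (by
    change cj ψ (sw F K) * cj ψ (dg (z, z⁻¹)) * (cj ψ (sw F K))⁻¹ = (cj ψ (dg (z, z⁻¹)))⁻¹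
    rw [sw_conj, ← map_inv, ← map_inv]
    congr 2)
  have hCAX : ∀ i, Commute (X (some i, none)) CA := fun i => Subtype.ext (h.cA_comm (a i)).symm
  have hCBX : ∀ i, Commute (X (some i, some i)) CB := fun i => by
    have h1 := sw_conj (ψ := ψ) (a i, a i)
    rw [mul_inv_eq_iff_eq_mul] at h1
    exact Subtype.ext h1.symm
  have hl : ∀ j : J H, lo2 j ≤ blockRank p (principalBlock M ↥(Subgroup.centralizer ({f j} : Set ↥(E Q)))) := by
    rintro (_ | i | ⟨i, k⟩ | i)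
    · have e0 : f (Sum.inl PUnit.unit) = X (none, none) := if_neg (fun hh : False => hh)
      have e1 : X (none, none) = 1 := Subtype.ext (by
        rw [hXv]
        change cj ψ (dg ((1 : Kˣ), (1 : Kˣ))) = 1
        rw [← Prod.one_eq_mk, map_one, map_one])
      rw [show f (Sum.inl PUnit.unit) = 1 from e0.trans e1]
      exact two_le hM hp2 (Commute.one_left _) (Commute.one_left _) (hdgp _ h1z _) hYne' hCA4 hCAY
    · exact two_le hM hp2 (hdgc _ _ _ _) (hCAX i) (hdgp _ h1z _) hYne' hCA4 hCAY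
    · by_cases hik : i = k
      · subst hik
        have e1 : lo2 (Sum.inr (Sum.inr (Sum.inl (i, i))) : J H) = 2 := if_pos rfl
        have e2 : f (Sum.inr (Sum.inr (Sum.inl (i, i)))) = X (some i, some i) := by
          simp only [hf, mi, lt_irrefl, if_false, pr, min_self, max_self]
        rw [e1, e2]
        exact two_le hM hp2 (hdgc _ _ _ _) (hCBX i) (hdgp _ hzz _) hYne hCB4 hCBY
      · have e1 : lo2 (Sum.inr (Sum.inr (Sum.inl (i, k))) : J H) = 1 := if_neg hik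
        rw [e1]
        exact one_le hM _
    · exact two_le_cr hM hp2 hv (hdgc _ _ _ _) (hCBX i) (hdgp _ hzz _) hYne hCB4 hCBY
  have hfp : ∀ j, f j ^ p = 1 := by
    intro j
    have h1 : X (pr j) ^ p = 1 := hdgp _ (hvl2 _) _
    by_cases hj : mi j
    · simp only [hf, if_pos hj]
      rw [← map_pow, h1, map_one]
    · simp only [hf, if_neg hj]
      exact h1
  exact ⟨f, hfp, hinj, hl⟩

/-- families and `kJ` -/
theorem family_le_kJ {G : Type u} [Group G] [Finite G] (hp2 : p ≠ 2) (hM : IsPModular p M) {κ : Type*} [Fintype κ] (f : κ → G)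
    (hf : ∀ i, f i ^ p = 1) (hinj : ∀ i j, IsConj (f i) (f j) → i = j) (l : κ → ℕ)
    (hl : ∀ i, l i ≤ blockRank p (principalBlock M ↥(centralizer ({f i} : Set G)))) :
    ∑ i, l i ≤ Cfsg.Agent.H508.XR.kJ p M G := by
  classical
  have hinj' : Function.Injective f := fun i j h => hinj i j (by rw [h])
  have h1 := Cfsg.Agent.H76.KJ.sum_le_kJ hp2 hM (Finset.univ.image f) (fun x hx => ?_) (fun x hx y hy hxy => ?_)
  · rw [Finset.sum_image fun i _ j _ h => hinj' h] at h1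
    exact (Finset.sum_le_sum fun i _ => hl i).trans h1
  · obtain ⟨i, -, rfl⟩ := Finset.mem_image.1 hx
    exact hf i
  · obtain ⟨i, -, rfl⟩ := Finset.mem_image.1 hx
    obtain ⟨j, -, rfl⟩ := Finset.mem_image.1 hy
    rw [hinj i j hxy]

/-- **the bound for `kJ`** -/
theorem kJ_bound (h : Mdl φ Q Q₁ ψ) (hM : IsPModular p M) (hp2 : p ≠ 2)
    (hd : Cfsg.Agent.H200.LinFix.Ordd p (Nat.card F) 4) (hQ : (polarBilin Q).Nondegenerate) (hι : Fintype.card ι = 8)
    (hnm : ∀ z : Kˣ, z ^ p = 1 → nm φ (z : K) = 1) (hsw : cj ψ (sw F K) ∈ E Q) {H : ℕ} (a : Fin H → Kˣ)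
    (ha : ∀ i, a i ^ p = 1) (ha1 : ∀ i, a i ≠ 1) (hcl : ∀ i j, IsConjRoot F (a i : K) (a j : K) → i = j) (z : Kˣ)
    (hz : z ^ p = 1) (hz1 : z ≠ 1) :
    2 + (2 * H + ((H * H + H) + 2 * H)) ≤ Cfsg.Agent.H508.XR.kJ p M ↥(E Q) := by
  have hfinV : Finite ((ι → F) ≃ₗ[F] (ι → F)) :=
    Finite.of_injective (fun g : (ι → F) ≃ₗ[F] (ι → F) => (g : (ι → F) → (ι → F))) DFunLike.coe_injective
  obtain ⟨f, h1, h2, h3⟩ := four_family h hM hp2 hd hQ hι hnm hsw a ha ha1 hcl z hz hz1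
  have h4 := family_le_kJ hp2 hM f h1 h2 lo2 h3
  rwa [sum_lo2] at h4

end Cfsg.Agent.H605.PO8
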