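import Cfsg.Agent.H605.XZ.PO8a

/-!
# S4791: `PΩ₈⁺(q)`, `p ∣ q² + 1`: the Sylow subgroup (helper605)

In the model `K × K`, `[K : F] = 4`:

* `comm_of_two` : a linear map commuting with `dg (b₁, b₂)`, `b₁`, `b₂` of order `p`, not conjugate over `F`, commutes with
  all diagonal maps.
* `eq_dg` : a linear map commuting with all diagonal maps is diagonal.
* `pow_N` : elements of `p`-power order of `Kˣ` have order dividing `p ^ (n + 1)`, the `p`-part of `q² + 1`.
-/

set_option autoImplicit false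
set_option linter.unusedSectionVars false

open QuadraticMap Module Cfsg Subgroup Cfsg.Agent.LieClassical.OrthCore Cfsg.Agent.LieClassical.OrthTrans
open Cfsg.Agent.LieClassical.OrthFinite Cfsg.Agent.ClassicalGeometry Cfsg.Agent.H508.KB
open Cfsg.Agent.H587.KB8 Cfsg.Agent.H587.KB8.Mdl
open Cfsg.Agent.H200.LinFix

namespace Cfsg.Agent.H605.PO8

section lin

variable {F K : Type*} [Field F] [Field K] [Algebra F K] [Finite K]
variable {ι : Type} [Fintype ι] [DecidableEq ι] {Q : QuadraticForm F (ι → F)} {ψ : (K × K) ≃ₗ[F] (ι → F)}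

/-- pull back to `K × K` -/
theorem exists_pull (y : (ι → F) ≃ₗ[F] (ι → F)) : ∃ Y : (K × K) →ₗ[F] (K × K), (∀ w, ψ (Y w) = y (ψ w)) ∧
    ∀ c : Kˣ × Kˣ, (y * cj ψ (dg c) = cj ψ (dg c) * y) ↔ ∀ w, Y (dg (F := F) c w) = dg (F := F) c (Y w) := by
  set Y : (K × K) →ₗ[F] (K × K) := ψ.symm.toLinearMap ∘ₗ y.toLinearMap ∘ₗ ψ.toLinearMap with hY
  have hYa : ∀ w, ψ (Y w) = y (ψ w) := fun w => ψ.apply_symm_apply _
  refine ⟨Y, hYa, fun c => ?_⟩
  constructor
  · intro hc w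
    apply ψ.injective
    rw [hYa, ← cj_apply ψ (dg c) w, ← cj_apply ψ (dg c) (Y w), hYa]
    exact DFunLike.congr_fun hc (ψ w)
  · intro hc
    ext1 v
    obtain ⟨w, rfl⟩ := ψ.surjective v
    change y (cj ψ (dg c) (ψ w)) = cj ψ (dg c) (y (ψ w))
    rw [cj_apply, ← hYa, ← hYa, cj_apply, hc]

/-- **commuting with one regular element** -/
theorem comm_of_two {p : ℕ} [Fact p.Prime] (hd : Ordd p (Nat.card F) 4) (hK : finrank F K = 4) {b₁ b₂ : Kˣ}
    (h1 : b₁ ^ p = 1) (h11 : b₁ ≠ 1) (h2 : b₂ ^ p = 1) (h21 : b₂ ≠ 1) (hne : ¬ IsConjRoot F (b₁ : K) (b₂ : K))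
    {y : (ι → F) ≃ₗ[F] (ι → F)} (hy : y * cj ψ (dg (b₁, b₂)) = cj ψ (dg (b₁, b₂)) * y) (b : Kˣ × Kˣ) :
    y * cj ψ (dg b) = cj ψ (dg b) * y := by
  have hfd : FiniteDimensional F K := Module.Finite.of_finite
  obtain ⟨Y, -, hYc⟩ := exists_pull (ψ := ψ) y
  have hy' := (hYc _).1 hy
  rw [hYc]
  have e1 : ∀ a : K, (Y (a, 0)).2 = 0 := by
    intro a
    by_contra h0
    refine hne (conjRoot_of_semi (θ := LinearMap.snd F K K ∘ₗ Y ∘ₗ LinearMap.inl F K K) (fun h => h0 ?_) fun v => ?_)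
    · exact LinearMap.congr_fun h a
    · have h3 := congrArg Prod.snd (hy' (v, 0))
      rw [dg_apply, dg_apply, mul_zero] at h3
      exact h3
  have e2 : ∀ a : K, (Y (0, a)).1 = 0 := by
    intro a
    by_contra h0
    refine hne (conjRoot_of_semi (θ := LinearMap.fst F K K ∘ₗ Y ∘ₗ LinearMap.inr F K K) (fun h => h0 ?_) fun v => ?_).symm
    · exact LinearMap.congr_fun h a
    · have h3 := congrArg Prod.fst (hy' (0, v))
      rw [dg_apply, dg_apply, mul_zero] at h3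
      exact h3
  have e3 : ∀ k a : K, (Y (k * a, 0)).1 = k * (Y (a, 0)).1 := by
    intro k a
    refine comm_of_comm hd hK h1 h11 (LinearMap.fst F K K ∘ₗ Y ∘ₗ LinearMap.inl F K K) (fun c => ?_) k a
    have h3 := congrArg Prod.fst (hy' (c, 0))
    rw [dg_apply, dg_apply, mul_zero] at h3
    exact h3
  have e4 : ∀ k a : K, (Y (0, k * a)).2 = k * (Y (0, a)).2 := by
    intro k a
    refine comm_of_comm hd hK h2 h21 (LinearMap.snd F K K ∘ₗ Y ∘ₗ LinearMap.inr F K K) (fun c => ?_) k a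
    have h3 := congrArg Prod.snd (hy' (0, c))
    rw [dg_apply, dg_apply, mul_zero] at h3
    exact h3
  intro w
  have e5 : ∀ u : K × K, u = (u.1, 0) + (0, u.2) := fun u => by simp
  have e6 : ∀ u : K × K, Y u = ((Y (u.1, 0)).1, (Y (0, u.2)).2) := by
    intro u
    conv_lhs => rw [e5 u, map_add]
    refine Prod.ext ?_ ?_
    · rw [Prod.fst_add, e2, add_zero]
    · rw [Prod.snd_add, e1, zero_add]
  rw [e6 (dg b w), dg_apply, dg_apply, e3, e4, e6 w]

/-- **commuting with all diagonal maps** -/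
theorem eq_dg {z : Kˣ} (hz1 : z ≠ 1) {y : (ι → F) ≃ₗ[F] (ι → F)} (hy : ∀ b : Kˣ × Kˣ, y * cj ψ (dg b) = cj ψ (dg b) * y) :
    ∃ b : Kˣ × Kˣ, y = cj ψ (dg b) := by
  obtain ⟨Y, hYa, hYc⟩ := exists_pull (ψ := ψ) y
  have hy' := fun b => (hYc b).1 (hy b)
  have hz' : (z : K) ≠ 1 := fun h => hz1 (Units.ext h)
  have e1 : (Y (1, 0)).2 = 0 := by
    have h3 := congrArg Prod.snd (hy' (1, z) (1, 0))
    rw [dg_apply, dg_apply, mul_zero, Units.val_one, one_mul] at h3
    have h4 : (Y (1, 0)).2 = (z : K) * (Y (1, 0)).2 := h3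
    by_contra h0
    exact hz' (mul_right_cancel₀ h0 (by rw [← h4, one_mul]))
  have e2 : (Y (0, 1)).1 = 0 := by
    have h3 := congrArg Prod.fst (hy' (z, 1) (0, 1))
    rw [dg_apply, dg_apply, mul_zero, Units.val_one, one_mul] at h3
    have h4 : (Y (0, 1)).1 = (z : K) * (Y (0, 1)).1 := h3
    by_contra h0
    exact hz' (mul_right_cancel₀ h0 (by rw [← h4, one_mul]))
  have hYi : Function.Injective Y := by
    intro a b hab
    apply ψ.injective
    apply y.injective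
    rw [← hYa, ← hYa, hab]
  have hu : (Y (1, 0)).1 ≠ 0 := by
    intro h0
    have h3 : Y (1, 0) = Y 0 := by
      rw [map_zero]
      exact Prod.ext h0 e1
    exact one_ne_zero (congrArg Prod.fst (hYi h3))
  have hv : (Y (0, 1)).2 ≠ 0 := by
    intro h0
    have h3 : Y (0, 1) = Y 0 := by
      rw [map_zero]
      exact Prod.ext e2 h0
    exact one_ne_zero (congrArg Prod.snd (hYi h3))
  have e3 : ∀ a : K, Y (a, 0) = (a * (Y (1, 0)).1, 0) := by
    intro a
    by_cases ha : a = 0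
    · subst ha
      rw [zero_mul]
      exact map_zero Y
    · have h3 := hy' (Units.mk0 a ha, 1) (1, 0)
      rw [dg_apply, dg_apply, mul_zero] at h3
      change Y (a * 1, 0) = (a * (Y (1, 0)).1, ((1 : Kˣ) : K) * (Y (1, 0)).2) at h3
      rw [mul_one, e1, mul_zero] at h3
      exact h3
  have e4 : ∀ a : K, Y (0, a) = (0, a * (Y (0, 1)).2) := by
    intro a
    by_cases ha : a = 0
    · subst ha
      rw [zero_mul]
      exact map_zero Y
    · have h3 := hy' (1, Units.mk0 a ha) (0, 1)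
      rw [dg_apply, dg_apply, mul_zero] at h3
      change Y (0, a * 1) = (((1 : Kˣ) : K) * (Y (0, 1)).1, a * (Y (0, 1)).2) at h3
      rw [mul_one, e2, mul_zero] at h3
      exact h3
  refine ⟨(Units.mk0 _ hu, Units.mk0 _ hv), ?_⟩
  ext1 v
  obtain ⟨w, rfl⟩ := ψ.surjective v
  rw [cj_apply, ← hYa, dg_apply]
  congr 1
  have e5 : w = (w.1, 0) + (0, w.2) := by simp
  conv_lhs => rw [e5, map_add, e3, e4]
  refine Prod.ext ?_ ?_
  · change w.1 * (Y (1, 0)).1 + 0 = (Y (1, 0)).1 * w.1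
    rw [add_zero, mul_comm]
  · change 0 + w.2 * (Y (0, 1)).2 = (Y (0, 1)).2 * w.2
    rw [zero_add, mul_comm]

end lin

end Cfsg.Agent.H605.PO8
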